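import Groth.Agent.PointsRegLib.Alg
import Groth.Agent.CMRegLib.Seq
import Groth.Agent.RegIdealLib.Immersion
import Groth.Agent.IdealStalkLib.Cartier
import Groth.Agent.ProjMap.Basic

/-!
# Coordinates at the points of a finite subscheme of projective space
-/

set_option autoImplicit false
set_option backward.isDefEq.respectTransparency false
set_option linter.style.haveILetI false

universe u

open CategoryTheory AlgebraicGeometry HomogeneousLocalization

noncomputable section

namespace Groth.Agent.PointsRegLib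

variable {k : Type u} [Field k] {n : ℕ}

local notation "𝒜" => CohB1.polyGrading n k

/-- The constants. -/
def cst : k →+* Γ(CohB1.ProjSpace n k, ⊤) :=
  ((CohB1.ProjSpace n k).presheaf.map (eqToHom (Proj.basicOpen_one 𝒜).symm).op).hom.comp
    ((Proj.awayToSection 𝒜 1).hom.comp ((fromZeroRingHom 𝒜 _).comp (algebraMap k (𝒜 0))))

/-- The constants on an open. -/
def cstOn (U : (CohB1.ProjSpace n k).Opens) : k →+* Γ(CohB1.ProjSpace n k, U) :=
  ((CohB1.ProjSpace n k).presheaf.map (homOfLE (le_top : U ≤ ⊤)).op).hom.comp cst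

/-- The coordinate ratio. -/
abbrev ratio (a v : Fin (n + 1)) : Γ(CohB1.ProjSpace n k, AmpleEmb.stdOpen n k a) := AmpleEmb.coordRatio n k a v

theorem awayToSection_fromZero (a : Fin (n + 1)) (c : k) :
    (Proj.awayToSection 𝒜 (MvPolynomial.X a)).hom (fromZeroRingHom 𝒜 _ (algebraMap k (𝒜 0) c)) =
      cstOn (AmpleEmb.stdOpen n k a) c :=
  Subtype.ext (funext fun x => HomogeneousLocalization.val_injective _ rfl)

theorem awayToSection_ratio (a v : Fin (n + 1)) :
    (Proj.awayToSection 𝒜 (MvPolynomial.X a)).hom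
      (Away.mk 𝒜 (ProjMap.X_mem a) 1 (MvPolynomial.X v) (by rw [one_smul]; exact ProjMap.X_mem v)) = ratio a v :=
  Subtype.ext (funext fun x => HomogeneousLocalization.val_injective _ (by
    show Localization.mk _ _ = Localization.mk _ _
    congr 1
    exact Subtype.ext (pow_one _)))

theorem away_adjoin (a : Fin (n + 1)) (z : Away 𝒜 (MvPolynomial.X a : MvPolynomial (Fin (n + 1)) k))
    (S : Subring (Away 𝒜 (MvPolynomial.X a : MvPolynomial (Fin (n + 1)) k)))
    (hc : ∀ c, fromZeroRingHom 𝒜 _ (algebraMap k (𝒜 0) c) ∈ S)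
    (hv : ∀ v, Away.mk 𝒜 (ProjMap.X_mem a) 1 (MvPolynomial.X v) (by rw [one_smul]; exact ProjMap.X_mem v) ∈ S) :
    z ∈ S := by
  obtain ⟨m, f, hf, rfl⟩ := Away.mk_surjective 𝒜 (ProjMap.X_mem a) z
  let L := Localization.Away (MvPolynomial.X a : MvPolynomial (Fin (n + 1)) k)
  let ι : Away 𝒜 (MvPolynomial.X a : MvPolynomial (Fin (n + 1)) k) →+* L := algebraMap _ L
  suffices h : IsLocalization.mk' L f (⟨MvPolynomial.X a ^ m, m, rfl⟩ : Submonoid.powers (MvPolynomial.X a : MvPolynomial (Fin (n + 1)) k)) ∈ S.map ι by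
    obtain ⟨w, hw, hwe⟩ := h
    rw [show Away.mk 𝒜 (ProjMap.X_mem a) m f hf = w from ?_]
    · exact hw
    apply HomogeneousLocalization.val_injective
    rw [Away.val_mk, Localization.mk_eq_mk']
    exact hwe.symm
  have hfm : f.IsHomogeneous m := by
    have : f ∈ 𝒜 m := by simpa using hf
    exact this
  clear hf
  rw [f.as_sum, IsLocalization.mk'_eq_mul_mk'_one, map_sum, Finset.sum_mul]
  refine sum_mem fun d hd => ?_
  rw [← IsLocalization.mk'_eq_mul_mk'_one]
  have hdeg : d.degree = m := by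
    have := hfm (MvPolynomial.mem_support_iff.1 hd)
    rwa [Finsupp.degree_eq_weight_one]
  have hterm : IsLocalization.mk' L (MvPolynomial.monomial d (f.coeff d))
      (⟨MvPolynomial.X a ^ m, m, rfl⟩ : Submonoid.powers (MvPolynomial.X a : MvPolynomial (Fin (n + 1)) k)) =
      ι (fromZeroRingHom 𝒜 _ (algebraMap k (𝒜 0) (f.coeff d)) * ∏ v ∈ d.support,
        Away.mk 𝒜 (ProjMap.X_mem a) 1 (MvPolynomial.X v) (by rw [one_smul]; exact ProjMap.X_mem v) ^ d v) := by
    have h0 : ι (fromZeroRingHom 𝒜 _ (algebraMap k (𝒜 0) (f.coeff d))) =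
        algebraMap _ L (MvPolynomial.C (f.coeff d)) :=
      (HomogeneousLocalization.val_mk _).trans (Localization.mk_one_eq_algebraMap _)
    have hY : ∀ v, ι (Away.mk 𝒜 (ProjMap.X_mem a) 1 (MvPolynomial.X v) (by rw [one_smul]; exact ProjMap.X_mem v)) *
        algebraMap _ L (MvPolynomial.X a) = algebraMap _ L (MvPolynomial.X v) := fun v => by
      show Localization.mk _ _ * _ = _
      rw [Localization.mk_eq_mk']
      exact (congrArg (_ * ·) (congrArg (algebraMap _ L) (pow_one _).symm)).trans (IsLocalization.mk'_spec L _ _)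
    rw [map_mul, h0, map_prod, IsLocalization.mk'_eq_iff_eq_mul, MvPolynomial.monomial_eq, map_mul, mul_assoc]
    refine congrArg (_ * ·) ?_
    rw [Finsupp.prod, map_prod]
    simp only [map_pow]
    rw [show (m : ℕ) = ∑ v ∈ d.support, d v from hdeg.symm, ← Finset.prod_pow_eq_pow_sum, ← Finset.prod_mul_distrib]
    exact Finset.prod_congr rfl fun v _ => by rw [← mul_pow, hY]
  exact hterm ▸ Subring.mem_map.2 ⟨_, S.mul_mem (hc _) (S.prod_mem fun v _ => S.pow_mem (hv v) _), rfl⟩

theorem adjoin_ratio (a : Fin (n + 1)) (s : Γ(CohB1.ProjSpace n k, AmpleEmb.stdOpen n k a))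
    (S : Subring Γ(CohB1.ProjSpace n k, AmpleEmb.stdOpen n k a))
    (hc : ∀ c, cstOn _ c ∈ S) (hv : ∀ v, ratio a v ∈ S) : s ∈ S := by
  obtain ⟨z, rfl⟩ := (ConcreteCategory.bijective_of_isIso
    (Proj.basicOpenIsoAway 𝒜 (MvPolynomial.X a) (ProjMap.X_mem a) one_pos).hom).2 s
  show z ∈ S.comap (Proj.awayToSection 𝒜 (MvPolynomial.X a)).hom
  exact away_adjoin a z _ (fun c => by rw [Subring.mem_comap, awayToSection_fromZero]; exact hc c)
    (fun v => by rw [Subring.mem_comap, awayToSection_ratio]; exact hv v)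

theorem ratio_self (a : Fin (n + 1)) : ratio (k := k) a a = 1 :=
  Subtype.ext (funext fun x => HomogeneousLocalization.val_injective _
    (((HomogeneousLocalization.val_mk _).trans
      (Localization.mk_self (⟨_, x.2⟩ : x.1.asHomogeneousIdeal.toIdeal.primeCompl))).trans
      HomogeneousLocalization.val_one.symm))

theorem ratio_mul (a w v : Fin (n + 1)) (y : CohB1.ProjSpace n k) (ha : y ∈ AmpleEmb.stdOpen n k a)
    (hw : y ∈ AmpleEmb.stdOpen n k w) :
    (CohB1.ProjSpace n k).presheaf.germ _ y hw (ratio w v) =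
      (CohB1.ProjSpace n k).presheaf.germ _ y hw (ratio w a) *
        (CohB1.ProjSpace n k).presheaf.germ _ y ha (ratio a v) := by
  let U := AmpleEmb.stdOpen n k w ⊓ AmpleEmb.stdOpen n k a
  rw [← (CohB1.ProjSpace n k).presheaf.germ_res_apply (homOfLE (inf_le_left : U ≤ AmpleEmb.stdOpen n k w)) y ⟨hw, ha⟩,
    ← (CohB1.ProjSpace n k).presheaf.germ_res_apply (homOfLE (inf_le_left : U ≤ AmpleEmb.stdOpen n k w)) y ⟨hw, ha⟩ (ratio w a),
    ← (CohB1.ProjSpace n k).presheaf.germ_res_apply (homOfLE (inf_le_right : U ≤ AmpleEmb.stdOpen n k a)) y ⟨hw, ha⟩,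
    ← map_mul]
  refine congrArg _ (Subtype.ext (funext fun z => HomogeneousLocalization.val_injective _ ?_))
  refine Eq.trans ?_ (HomogeneousLocalization.val_mul _ _).symm
  show Localization.mk _ _ = Localization.mk _ _ * Localization.mk _ _
  rw [Localization.mk_mul, Localization.mk_eq_mk_iff, Localization.r_iff_exists]
  exact ⟨1, by simp only [Submonoid.coe_mul, OneMemClass.coe_one, one_mul]; ring⟩

variable {X : Scheme.{u}} (i : X ⟶ CohB1.ProjSpace n k)

/-- The constants in a stalk. -/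
def cstX (x : X) : k →+* X.presheaf.stalk x :=
  (i.stalkMap x).hom.comp (((CohB1.ProjSpace n k).presheaf.germ ⊤ (i x) trivial).hom.comp cst)

/-- Restriction to a stalk. -/
def rho {x : X} {U : (CohB1.ProjSpace n k).Opens} (hx : i x ∈ U) : Γ(CohB1.ProjSpace n k, U) →+* X.presheaf.stalk x :=
  (i.stalkMap x).hom.comp ((CohB1.ProjSpace n k).presheaf.germ U (i x) hx).hom

theorem rho_cstOn {x : X} {U : (CohB1.ProjSpace n k).Opens} (hx : i x ∈ U) (c : k) :
    rho i hx (cstOn U c) = cstX i x c :=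
  congrArg (i.stalkMap x) ((CohB1.ProjSpace n k).presheaf.germ_res_apply (homOfLE le_top) (i x) hx (cst c))

theorem rho_mem_adjoin {x : X} {a : Fin (n + 1)} (hx : i x ∈ AmpleEmb.stdOpen n k a)
    (s : Γ(CohB1.ProjSpace n k, AmpleEmb.stdOpen n k a)) :
    letI := (cstX i x).toAlgebra
    rho i hx s ∈ Algebra.adjoin k (Set.range fun v => rho i hx (ratio a v)) := by
  letI := (cstX i x).toAlgebra
  exact adjoin_ratio a s ((Algebra.adjoin k (Set.range fun v => rho i hx (ratio a v))).toSubring.comap (rho i hx))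
    (fun c => by rw [Subring.mem_comap, rho_cstOn]; exact Subalgebra.algebraMap_mem _ c)
    (fun v => Algebra.subset_adjoin ⟨v, rfl⟩)

theorem isAffineOpen_stdOpen (a : Fin (n + 1)) : IsAffineOpen (AmpleEmb.stdOpen n k a) := by
  rw [show AmpleEmb.stdOpen n k a =
    (Proj.awayι 𝒜 (MvPolynomial.X a) (ProjMap.X_mem a) one_pos).opensRange from (Proj.opensRange_awayι _ _ _ _).symm]
  exact isAffineOpen_opensRange _

theorem exists_chart (y : CohB1.ProjSpace n k) : ∃ a, y ∈ AmpleEmb.stdOpen n k a :=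
  TopologicalSpace.Opens.mem_iSup.1 ((AmpleEmb.iSup_stdOpen n k).ge trivial)

variable [IsClosedImmersion i]

/-- A nilpotent maximal ideal and rational residue field make the coordinates generate the stalk. -/
theorem adjoin_stalk {x : X} {a : Fin (n + 1)} (hx : i x ∈ AmpleEmb.stdOpen n k a) (hcl : IsClosed ({x} : Set X))
    (hnil : IsNilpotent (IsLocalRing.maximalIdeal (X.presheaf.stalk x))) [IsAlgClosed k] :
    letI := (cstX i x).toAlgebra
    Algebra.adjoin k (Set.range fun v => rho i hx (ratio a v)) = ⊤ ∧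
      ∃ ε : X.presheaf.stalk x →ₐ[k] k, RingHom.ker ε = IsLocalRing.maximalIdeal (X.presheaf.stalk x) := by
  letI := (cstX i x).toAlgebra
  set S := Algebra.adjoin k (Set.range fun v => rho i hx (ratio a v))
  have haff : IsAffineOpen (i ⁻¹ᵁ AmpleEmb.stdOpen n k a) := (isAffineOpen_stdOpen a).preimage i
  letI : Algebra Γ(X, i ⁻¹ᵁ AmpleEmb.stdOpen n k a) (X.presheaf.stalk x) :=
    TopCat.Presheaf.algebra_section_stalk X.presheaf ⟨x, hx⟩
  haveI := haff.isLocalization_stalk ⟨x, hx⟩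
  haveI hP : (haff.primeIdealOf ⟨x, hx⟩).asIdeal.IsMaximal := haff.primeIdealOf_isMaximal_of_isClosed ⟨x, hx⟩ hcl
  have hr : ∀ r, rho i hx r = algebraMap _ (X.presheaf.stalk x) (i.app _ r) := fun r =>
    Scheme.Hom.germ_stalkMap_apply i _ x hx r
  -- every section of the chart of `X` comes from projective space
  have hmem : ∀ t : Γ(X, i ⁻¹ᵁ AmpleEmb.stdOpen n k a), algebraMap _ (X.presheaf.stalk x) t ∈ S := fun t => by
    obtain ⟨e, rfl⟩ := i.app_surjective _ (isAffineOpen_stdOpen a) t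
    rw [← hr]
    exact rho_mem_adjoin i hx e
  let κ := IsLocalRing.ResidueField (X.presheaf.stalk x)
  let q : X.presheaf.stalk x →ₐ[k] κ := IsScalarTower.toAlgHom k (X.presheaf.stalk x) κ
  -- each element is congruent to a section
  have hmod : ∀ w, ∃ t, q w = q (algebraMap Γ(X, i ⁻¹ᵁ AmpleEmb.stdOpen n k a) _ t) := fun w => by
    obtain ⟨e, s, rfl⟩ := IsLocalization.exists_mk'_eq (haff.primeIdealOf ⟨x, hx⟩).asIdeal.primeCompl w
    obtain ⟨t, ht⟩ := hP.exists_inv (show (s : Γ(X, _)) ∉ _ from s.2)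
    obtain ⟨p, hp, htp⟩ := ht
    refine ⟨e * t, ?_⟩
    have hp0 : q (algebraMap Γ(X, i ⁻¹ᵁ AmpleEmb.stdOpen n k a) (X.presheaf.stalk x) p) = 0 :=
      (IsLocalRing.residue_eq_zero_iff _).2
        ((IsLocalization.AtPrime.to_map_mem_maximal_iff (X.presheaf.stalk x) (haff.primeIdealOf ⟨x, hx⟩).asIdeal p).2 hp)
    have hst : q (algebraMap Γ(X, i ⁻¹ᵁ AmpleEmb.stdOpen n k a) (X.presheaf.stalk x) t) *
        q (algebraMap Γ(X, i ⁻¹ᵁ AmpleEmb.stdOpen n k a) (X.presheaf.stalk x) (s : Γ(X, _))) = 1 := by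
      have := congrArg (fun z => q (algebraMap Γ(X, i ⁻¹ᵁ AmpleEmb.stdOpen n k a) (X.presheaf.stalk x) z)) htp
      simpa [map_add, map_mul, hp0] using this
    have hw := congrArg q (IsLocalization.mk'_spec (X.presheaf.stalk x) e s)
    rw [map_mul] at hw
    rw [map_mul, map_mul, ← hw, mul_assoc]
    exact ((congrArg (_ * ·) ((mul_comm _ _).trans hst)).trans (mul_one _)).symm
  have hκ : Function.Bijective (algebraMap k κ) := by
    have htop : S.map q = ⊤ := top_le_iff.1 fun z _ => by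
      obtain ⟨w, rfl⟩ := IsLocalRing.residue_surjective z
      obtain ⟨t, ht⟩ := hmod w
      exact ⟨_, hmem t, ht.symm⟩
    have hfg : (⊤ : Subalgebra k κ).FG := htop ▸ Subalgebra.FG.map q
      ⟨(Set.finite_range fun v => rho i hx (ratio a v)).toFinset, by rw [Set.Finite.coe_toFinset]⟩
    haveI : Algebra.FiniteType k κ := ⟨hfg⟩
    haveI := finite_of_finite_type_of_isJacobsonRing k κ
    haveI : Algebra.IsIntegral k κ := Algebra.IsIntegral.of_finite k κ
    exact IsAlgClosed.algebraMap_bijective_of_isIntegral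
  let e : k ≃ₐ[k] κ := AlgEquiv.ofBijective (Algebra.ofId k κ) hκ
  let ε : X.presheaf.stalk x →ₐ[k] k := e.symm.toAlgHom.comp q
  have hker : RingHom.ker ε = IsLocalRing.maximalIdeal (X.presheaf.stalk x) := by
    ext w
    rw [RingHom.mem_ker]
    show e.symm (q w) = 0 ↔ _
    rw [map_eq_zero_iff _ e.symm.injective]
    exact IsLocalRing.residue_eq_zero_iff w
  refine ⟨top_le_iff.1 fun w _ => ?_, ε, hker⟩
  obtain ⟨e', s, rfl⟩ := IsLocalization.exists_mk'_eq (haff.primeIdealOf ⟨x, hx⟩).asIdeal.primeCompl w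
  set σ := algebraMap Γ(X, i ⁻¹ᵁ AmpleEmb.stdOpen n k a) (X.presheaf.stalk x) (s : Γ(X, _)) with hσ
  have hu : IsUnit σ := IsLocalization.map_units (X.presheaf.stalk x) s
  have hc : ε σ ≠ 0 := (hu.map ε).ne_zero
  have hν : IsNilpotent (⟨(ε σ)⁻¹ • σ - 1, sub_mem (S.smul_mem (hmem _) _) S.one_mem⟩ : S) := by
    obtain ⟨m, hm⟩ := hnil
    refine ⟨m, Subtype.ext ?_⟩
    show ((ε σ)⁻¹ • σ - 1) ^ m = 0
    have hin : (ε σ)⁻¹ • σ - 1 ∈ IsLocalRing.maximalIdeal (X.presheaf.stalk x) := by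
      rw [← hker, RingHom.mem_ker, map_sub, map_smul, map_one, smul_eq_mul, inv_mul_cancel₀ hc, sub_self]
    have := Ideal.pow_mem_pow hin m
    rwa [hm] at this
  obtain ⟨⟨inv, hinv⟩, hi⟩ := hν.isUnit_one_add.exists_left_inv
  have hi' : ((ε σ)⁻¹ • inv) * σ = 1 := by
    have := congrArg Subtype.val hi
    simpa [smul_mul_assoc, mul_smul_comm] using this
  have hw : IsLocalization.mk' (X.presheaf.stalk x) e' s =
      algebraMap _ (X.presheaf.stalk x) e' * ((ε σ)⁻¹ • inv) := by
    rw [IsLocalization.mk'_eq_iff_eq_mul, mul_assoc, ← hσ, hi', mul_one]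
  rw [hw]
  exact mul_mem (hmem e') (S.smul_mem hinv _)

/-- Two points with proportional coordinates are equal. -/
theorem eq_of_proportional [IsAlgClosed k] {x y : X} {a w : Fin (n + 1)} (hx : i x ∈ AmpleEmb.stdOpen n k a)
    (hy : i y ∈ AmpleEmb.stdOpen n k w) (εx : X.presheaf.stalk x →+* k) (εy : X.presheaf.stalk y →+* k)
    (hεx : ∀ c, εx (cstX i x c) = c) (hεy : ∀ c, εy (cstX i y c) = c) (hkx : IsLocalHom εx) (hky : IsLocalHom εy)
    (r : k) (h : ∀ v, εx (rho i hx (ratio a v)) = r * εy (rho i hy (ratio w v))) : x = y := by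
  have h1 : r * εy (rho i hy (ratio w a)) = 1 := by rw [← h a, ratio_self, map_one, map_one]
  have hu : IsUnit ((CohB1.ProjSpace n k).presheaf.germ _ (i y) hy (ratio w a)) := by
    refine (isUnit_map_iff (i.stalkMap y).hom _).1 ((isUnit_map_iff εy _).1 ?_)
    exact IsUnit.of_mul_eq_one_right r h1
  have hya : i y ∈ AmpleEmb.stdOpen n k a := by
    have := ((CohB1.ProjSpace n k).mem_basicOpen (ratio w a) (i y) hy).2 hu
    rw [AmpleEmb.basicOpen_coordRatio] at this
    exact this.2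
  have key : εx.comp (rho i hx) = εy.comp (rho i hya) := by
    refine RingHom.ext fun f => ?_
    refine adjoin_ratio a f (RingHom.eqLocus (εx.comp (rho i hx)) (εy.comp (rho i hya))) (fun c => ?_) (fun v => ?_)
    · show εx (rho i hx _) = εy (rho i hya _)
      rw [rho_cstOn, rho_cstOn, hεx, hεy]
    · show εx (rho i hx _) = εy (rho i hya _)
      rw [h v, show rho i hy (ratio w v) = rho i hy (ratio w a) * rho i hya (ratio a v) from
        (congrArg (i.stalkMap y) (ratio_mul a w v (i y) hya hy)).trans (map_mul _ _ _), map_mul, ← mul_assoc, h1, one_mul]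
  have hmem : ∀ (z : X) (hz : i z ∈ AmpleEmb.stdOpen n k a) (ε : X.presheaf.stalk z →+* k) [IsLocalHom ε]
      (f : Γ(CohB1.ProjSpace n k, AmpleEmb.stdOpen n k a)),
      i z ∈ (CohB1.ProjSpace n k).basicOpen f ↔ ε (rho i hz f) ≠ 0 := fun z hz ε _ f => by
    rw [(CohB1.ProjSpace n k).mem_basicOpen f (i z) hz, ← isUnit_iff_ne_zero, ← isUnit_map_iff (i.stalkMap z).hom,
      ← isUnit_map_iff ε]
    rfl
  refine i.isClosedEmbedding.injective ?_
  have hU := isAffineOpen_stdOpen (k := k) a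
  refine (hU.fromSpec_primeIdealOf ⟨i x, hx⟩).symm.trans (Eq.trans (congrArg _ ?_) (hU.fromSpec_primeIdealOf ⟨i y, hya⟩))
  refine PrimeSpectrum.ext (Ideal.ext fun f => not_iff_not.1 ?_)
  have hp : ∀ (z : AmpleEmb.stdOpen n k a), f ∉ (hU.primeIdealOf z).asIdeal ↔ (z : CohB1.ProjSpace n k) ∈ (CohB1.ProjSpace n k).basicOpen f := fun z => by
    conv_rhs => rw [← hU.fromSpec_primeIdealOf z]
    show _ ↔ hU.primeIdealOf z ∈ hU.fromSpec ⁻¹ᵁ (CohB1.ProjSpace n k).basicOpen f
    rw [hU.fromSpec_preimage_basicOpen]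
    rfl
  rw [hp, hp]
  haveI := hkx
  haveI := hky
  rw [hmem x hx εx, hmem y hya εy, ← RingHom.comp_apply, ← RingHom.comp_apply, key]

end Groth.Agent.PointsRegLib
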