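import Mathlib

/-!
# Interpolation at finitely many fat points

`B x` are local algebras with residue field `k` and `b x` the values of the coordinates at `x`.
-/

universe u

set_option linter.style.haveILetI false

open Finset

namespace Groth.Agent.PointsRegLib

section One

variable {k B : Type u} [Field k] [CommRing B] [Algebra k B] {ι : Type}

theorem mem_pow_succ_of_mem (V : Submodule k B) (h1 : (1 : B) ∈ V) {d : ℕ} {z : B} (hz : z ∈ V ^ d) :
    z ∈ V ^ (d + 1) := by
  rw [pow_succ]
  simpa using Submodule.mul_mem_mul hz h1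

/-- At one point: if the values generate the algebra and products of `μ + 1` elements killed by the
augmentation vanish, then degree `μ` already gives everything. -/
theorem pow_eq_top (b : ι → B) (v₀ : ι) (hv₀ : b v₀ = 1) (ε : B →ₐ[k] k)
    (hgen : Algebra.adjoin k (Set.range b) = ⊤) {μ : ℕ} (hμ : RingHom.ker ε ^ (μ + 1) = ⊥) {d : ℕ} (hd : μ ≤ d) :
    Submodule.span k (Set.range b) ^ d = ⊤ := by
  set U := Submodule.span k (Set.range b)
  have h1 : (1 : B) ∈ U := hv₀ ▸ Submodule.subset_span ⟨v₀, rfl⟩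
  let E : Submodule k B := U ⊓ (RingHom.ker ε).restrictScalars k
  have hU : U ≤ 1 ⊔ E := fun u hu => by
    refine Submodule.mem_sup.2 ⟨algebraMap k B (ε u), Submodule.algebraMap_mem _, u - algebraMap k B (ε u), ⟨?_, ?_⟩, by ring⟩
    · refine U.sub_mem hu ?_
      rw [Algebra.algebraMap_eq_smul_one]
      exact U.smul_mem _ h1
    · show u - algebraMap k B (ε u) ∈ RingHom.ker ε
      rw [RingHom.mem_ker, map_sub, AlgHom.commutes]
      exact sub_self _
  have hmono : ∀ e f, e ≤ f → U ^ e ≤ U ^ f := fun e f hef => by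
    induction f, hef using Nat.le_induction with
    | base => exact le_rfl
    | succ f _ ih => exact ih.trans fun z hz => mem_pow_succ_of_mem U h1 hz
  have hE : ∀ e, E ^ e ≤ (RingHom.ker ε ^ e).restrictScalars k := fun e => by
    induction e with
    | zero =>
      intro z _
      show z ∈ RingHom.ker ε ^ 0
      rw [pow_zero, Ideal.one_eq_top]
      trivial
    | succ e ih =>
      rw [pow_succ, Submodule.mul_le]
      intro z hz w hw
      show z * w ∈ RingHom.ker ε ^ (e + 1)
      rw [pow_succ]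
      exact Ideal.mul_mem_mul (ih hz) hw.2
  have hle : 1 ⊔ E ≤ U := sup_le (Submodule.one_le.2 h1) inf_le_left
  have hbin : ∀ e, (1 ⊔ E) ^ (e + 1) ≤ (1 ⊔ E) ^ e ⊔ E ^ (e + 1) := fun e => by
    induction e with
    | zero => simp
    | succ e ih =>
      rw [pow_succ (1 ⊔ E) (e + 1)]
      refine (mul_le_mul' ih le_rfl).trans ?_
      rw [Submodule.sup_mul, ← pow_succ, Submodule.mul_sup, mul_one, ← pow_succ]
      exact sup_le le_sup_left (sup_le ((pow_le_pow_left' le_sup_right _).trans le_sup_left) le_sup_right)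
  have hstab : U ^ (μ + 1) ≤ U ^ μ := by
    refine (pow_le_pow_left' hU _).trans ((hbin μ).trans (sup_le (pow_le_pow_left' hle _) fun z hz => ?_))
    have := hE _ hz
    rw [hμ] at this
    rw [show z = 0 from this]
    exact zero_mem _
  refine top_le_iff.1 ?_
  have hclosed : ∀ f, U ^ f ≤ U ^ μ := fun f => by
    induction f with
    | zero => exact hmono _ _ (Nat.zero_le _)
    | succ f ih =>
      rw [pow_succ]
      exact (mul_le_mul' ih le_rfl).trans ((pow_succ U μ).symm.le.trans hstab)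
  refine le_trans ?_ (hmono _ _ hd)
  suffices hall : ∀ z ∈ Algebra.adjoin k (Set.range b), z ∈ U ^ μ from fun z _ => hall z (hgen ▸ trivial)
  intro z hz
  induction hz using Algebra.adjoin_induction with
  | mem y hy => exact hclosed 1 (by rw [pow_one]; exact Submodule.subset_span hy)
  | algebraMap r => exact hclosed 0 (by rw [pow_zero]; exact Submodule.algebraMap_mem r)
  | add x y hx hy h₁ h₂ => exact add_mem h₁ h₂
  | mul x y hx hy h₁ h₂ => exact hclosed (μ + μ) (by rw [pow_add]; exact Submodule.mul_mem_mul h₁ h₂)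

end One

section Many

variable {k : Type u} [Field k] {ι : Type} [Finite ι] {P : Type u} [Fintype P] [DecidableEq P]
  {B : P → Type u} [∀ x, CommRing (B x)] [∀ x, Algebra k (B x)]

/-- Two points with non-proportional coordinates are separated by a linear form. -/
theorem exists_separating (b : ι → ∀ x, B x) (v₀ : P → ι) (hv₀ : ∀ x, b (v₀ x) x = 1) (ε : ∀ x, B x →ₐ[k] k)
    (hsep : ∀ x y, x ≠ y → ∀ r : k, ∃ v, ε x (b v x) ≠ r * ε y (b v y)) {x y : P} (hxy : x ≠ y) :
    ∃ l ∈ Submodule.span k (Set.range b), ε y (l y) = 0 ∧ ε x (l x) ≠ 0 := by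
  by_contra! h
  obtain ⟨v, hv⟩ := hsep x y hxy (ε x (b (v₀ y) x))
  have hl := h (b v - ε y (b v y) • b (v₀ y)) (Submodule.sub_mem _ (Submodule.subset_span ⟨v, rfl⟩)
    (Submodule.smul_mem _ _ (Submodule.subset_span ⟨v₀ y, rfl⟩))) (by simp [hv₀])
  refine hv ?_
  simp only [Pi.sub_apply, Pi.smul_apply, map_sub, map_smul, smul_eq_mul, sub_eq_zero] at hl
  rw [hl, mul_comm]

/-- Interpolation at finitely many fat points. -/
theorem interpolation (b : ι → ∀ x, B x) (v₀ : P → ι) (hv₀ : ∀ x, b (v₀ x) x = 1) (ε : ∀ x, B x →ₐ[k] k)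
    (hgen : ∀ x, Algebra.adjoin k (Set.range fun v => b v x) = ⊤)
    (μ : P → ℕ) (hμ : ∀ x, RingHom.ker (ε x) ^ (μ x + 1) = ⊥)
    (hsep : ∀ x y, x ≠ y → ∀ r : k, ∃ v, ε x (b v x) ≠ r * ε y (b v y))
    {j : ℕ} (hj : (∑ x, (μ x + 1)) ≤ j + 1) :
    Submodule.span k (Set.range b) ^ j = ⊤ := by
  set W := Submodule.span k (Set.range b)
  have hW : ∀ (x : P) (d : ℕ), (W ^ d).map (Pi.evalAlgHom k B x).toLinearMap =
      Submodule.span k (Set.range fun v => b v x) ^ d := fun x d => by
    rw [Submodule.map_pow, Submodule.map_span, ← Set.range_comp]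
    rfl
  refine top_le_iff.1 fun a _ => ?_
  rw [← Finset.univ_sum_single a]
  refine sum_mem fun x _ => ?_
  choose l hl hl0 hl1 using fun y : {y // y ≠ x} => exists_separating b v₀ hv₀ ε hsep y.2.symm
  let D := ∑ y : {y // y ≠ x}, (μ y + 1)
  let G : ∀ z, B z := ∏ y : {y // y ≠ x}, l y ^ (μ y + 1)
  have hG : G ∈ W ^ D := by
    have key : ∀ s : Finset {y // y ≠ x}, (∏ y ∈ s, l y ^ (μ y + 1)) ∈ W ^ ∑ y ∈ s, (μ y + 1) := fun s => by
      induction s using Finset.induction_on with
      | empty => simpa using ⟨1, map_one _⟩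
      | insert y s hy ih =>
        rw [Finset.prod_insert hy, Finset.sum_insert hy, pow_add]
        exact Submodule.mul_mem_mul (Submodule.pow_mem_pow W (hl y) _) ih
    exact key _
  have hG0 : ∀ y, y ≠ x → G y = 0 := fun y hy => by
    have h0 : (l ⟨y, hy⟩ y) ^ (μ y + 1) = 0 := by
      have := Ideal.pow_mem_pow (RingHom.mem_ker.2 (hl0 ⟨y, hy⟩)) (μ y + 1)
      rwa [hμ] at this
    show (∏ y : {y // y ≠ x}, l y ^ (μ y + 1)) y = 0
    rw [Finset.prod_apply]
    exact Finset.prod_eq_zero (Finset.mem_univ ⟨y, hy⟩) h0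
  have hGu : IsUnit (G x) := by
    show IsUnit ((∏ y : {y // y ≠ x}, l y ^ (μ y + 1)) x)
    rw [Finset.prod_apply, IsUnit.prod_iff]
    intro y _
    refine IsUnit.pow _ ?_
    have hn : IsNilpotent (l y x - algebraMap k (B x) (ε x (l y x))) := by
      refine ⟨μ x + 1, ?_⟩
      have := Ideal.pow_mem_pow (RingHom.mem_ker.2 (show ε x (l y x - algebraMap k (B x) (ε x (l y x))) = 0 by simp)) (μ x + 1)
      rwa [hμ] at this
    have := hn.isUnit_add_left_of_commute ((isUnit_iff_ne_zero.2 (hl1 y)).map (algebraMap k (B x))) (Commute.all _ _)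
    simpa using this
  obtain ⟨g, hg⟩ := hGu.exists_left_inv
  have hD : D + μ x ≤ j := by
    have h := Finset.add_sum_erase Finset.univ (fun z => μ z + 1) (Finset.mem_univ x)
    rw [Finset.sum_subtype (p := fun z => z ≠ x) (Finset.univ.erase x) (fun z => by simp) (fun z => μ z + 1)] at h
    show (∑ y : {y // y ≠ x}, (μ y + 1)) + μ x ≤ j
    omega
  obtain ⟨H, hH, hHx⟩ : a x * g ∈ (W ^ (j - D)).map (Pi.evalAlgHom k B x).toLinearMap := by
    rw [hW, pow_eq_top (fun v => b v x) (v₀ x) (hv₀ x) (ε x) (hgen x) (hμ x) (show μ x ≤ j - D by omega)]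
    trivial
  have hmem : G * H ∈ W ^ j := by
    have := Submodule.mul_mem_mul hG hH
    rwa [← pow_add, show D + (j - D) = j by omega] at this
  convert hmem using 1
  funext z
  rcases eq_or_ne z x with rfl | hz
  · rw [Pi.single_eq_same, Pi.mul_apply, show H z = a z * g from hHx, mul_comm (a z) g, ← mul_assoc,
      mul_comm (G z) g, hg, one_mul]
  · rw [Pi.single_eq_of_ne hz, Pi.mul_apply, hG0 z hz, zero_mul]

end Many

end Groth.Agent.PointsRegLib
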