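import Groth.Agent.PointsRegLib.Main

/-!
# Regularity of zero-dimensional subschemes
-/

set_option autoImplicit false
set_option backward.isDefEq.respectTransparency false
set_option linter.style.haveILetI false

universe u

open CategoryTheory CategoryTheory.Limits AlgebraicGeometry TopologicalSpace Opposite
open Groth.Agent.DCohLib Groth.Agent.PullbackMod Groth.Agent.CMRegLib

noncomputable section

namespace Groth.Agent.PointsRegLib

variable {k : Type u} [Field k] [IsAlgClosed k] {n : ℕ}

local notation "PS" => CohB1.ProjSpace n k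

variable {X : Scheme.{u}} (i : X ⟶ CohB1.ProjSpace n k) [IsClosedImmersion i] [Finite X]

omit [IsAlgClosed k] in
include i in
theorem isClosed_point (x : X) : IsClosed ({x} : Set X) := by
  haveI : IsProper (CohB1.ProjSpace.toSpec n k) := CompleteCurve.isProper_toSpec n k
  haveI : JacobsonSpace X :=
    LocallyOfFiniteType.jacobsonSpace (Y := Spec (CommRingCat.of k)) (i ≫ CohB1.ProjSpace.toSpec n k)
  exact isClosed_discrete _

/-- Surjectivity in degrees `≥ Σ (μ + 1) - 1`. -/
theorem surjAt_of_le (μ : X → ℕ) (hμ : ∀ x : X, IsLocalRing.maximalIdeal (X.presheaf.stalk x) ^ (μ x + 1) = ⊥)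
    {j : ℤ} (hj : (∑ᶠ x : X, (μ x : ℤ)) + (Nat.card X : ℤ) - 1 ≤ j) : CMRegLib.SurjAt (quo i) j := by
  classical
  rcases isEmpty_or_nonempty X with hX | hX
  · intro s
    refine exists_lift (quo i) (Twist.twistProjSpace n k j) (fun x : X => i x)
      (fun z hz => subsingleton_stalk_quo i hz) isEmptyElim isEmptyElim (fun _ => ⟨0, isEmptyElim⟩) s
  haveI := Fintype.ofFinite X
  choose v₀ hv₀ using fun x : X => exists_chart (k := k) (n := n) (i x)
  letI := fun x => (cstX i x).toAlgebra
  have hA := fun x => adjoin_stalk i (hv₀ x) (isClosed_point i x) ⟨μ x + 1, hμ x⟩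
  choose ε hε using fun x => (hA x).2
  have hloc : ∀ x, IsLocalHom (ε x : X.presheaf.stalk x →+* k) := fun x => ⟨fun a ha => by
    by_contra hn
    have : ε x a = 0 := RingHom.mem_ker.1 ((hε x).ge ((IsLocalRing.mem_maximalIdeal a).2 hn))
    exact ha.ne_zero this⟩
  have hsum : ((∑ x, (μ x + 1) : ℕ) : ℤ) = (∑ᶠ x : X, (μ x : ℤ)) + (Nat.card X : ℤ) := by
    rw [finsum_eq_sum_of_fintype, Nat.card_eq_fintype_card, Nat.cast_sum]
    push_cast
    rw [Finset.sum_add_distrib, Finset.sum_const, Finset.card_univ]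
    simp
  have hpos : 1 ≤ ∑ x, (μ x + 1) :=
    (Nat.le_add_left 1 _).trans (Finset.single_le_sum (f := fun x => μ x + 1) (fun _ _ => Nat.zero_le _)
      (Finset.mem_univ (Classical.arbitrary X)))
  obtain ⟨d, rfl⟩ : ∃ d : ℕ, j = d := ⟨j.toNat, by omega⟩
  refine surjAt_quo i v₀ hv₀ ?_
  refine interpolation (fun v x => rho i (hv₀ x) (ratio (v₀ x) v)) v₀ (fun x => by rw [ratio_self, map_one]) ε
    (fun x => (hA x).1) μ (fun x => by rw [hε]; exact hμ x) (fun x y hxy r => ?_) (by omega)
  by_contra! h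
  exact hxy (eq_of_proportional i (hv₀ x) (hv₀ y) (ε x : _ →+* k) (ε y : _ →+* k) (ε x).commutes (ε y).commutes
    (hloc x) (hloc y) r h)

omit [IsAlgClosed k] in
theorem support_quo : topologicalKrullDim (CohB1.support (cokernel (ClSub.idealModι i.ker))) ≤ 0 := by
  have hsub : CohB1.support (cokernel (ClSub.idealModι i.ker)) ⊆ Set.range i := fun z hz => by
    by_contra h
    exact hz (subsingleton_stalk_quo i h)
  haveI : Finite (CohB1.support (cokernel (ClSub.idealModι i.ker))) :=
    Set.Finite.to_subtype ((Set.finite_range _).subset hsub)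
  haveI : T1Space (CohB1.support (cokernel (ClSub.idealModι i.ker))) := ⟨fun z => by
    obtain ⟨x, hx⟩ := hsub z.2
    have h1 : IsClosed ({(z : PS)} : Set PS) := by
      rw [← hx, ← Set.image_singleton]
      exact i.isClosedEmbedding.isClosedMap _ (isClosed_point i x)
    convert h1.preimage continuous_subtype_val
    ext w
    simp [Subtype.ext_iff]⟩
  exact topologicalKrullDim_zero_of_discreteTopology _

omit [IsAlgClosed k] in
theorem isCoh_quo : Coh.IsCoh (cokernel (ClSub.idealModι i.ker)) := by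
  haveI := isNoetherian_projSpace (k := k) (n := n)
  exact (QCohLib.isCoh_kernel_cokernel (ClSub.idealModι i.ker) (RefOne.isCoh_idealMod i.ker)
    (DevLib.isCoh_structureModule (PS))).2

theorem main (μ : X → ℕ) (hμ : ∀ x : X, IsLocalRing.maximalIdeal (X.presheaf.stalk x) ^ (μ x + 1) = ⊥) :
    (∀ j : ℤ, (∑ᶠ x : X, (μ x : ℤ)) + (Nat.card X : ℤ) - 1 ≤ j → HT (ClSub.idealMod i.ker) j 1) ∧
      Curv2.IsMRegular k n (ClSub.idealMod i.ker) ((∑ᶠ x : X, (μ x : ℤ)) + (Nat.card X : ℤ)) := by
  haveI := isNoetherian_projSpace (k := k) (n := n)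
  have hm : 0 ≤ (∑ᶠ x : X, (μ x : ℤ)) + (Nat.card X : ℤ) :=
    add_nonneg (finsum_nonneg fun x => Int.natCast_nonneg _) (Int.natCast_nonneg _)
  haveI : Mono (ClSub.idealModι i.ker) := by unfold ClSub.idealModι; infer_instance
  have hS := shortExact_coker (ClSub.idealModι i.ker)
  have hI1 : ∀ j : ℤ, (∑ᶠ x : X, (μ x : ℤ)) + (Nat.card X : ℤ) - 1 ≤ j → HT (ClSub.idealMod i.ker) j 1 := fun j hj => by
    rcases Nat.eq_zero_or_pos n with hn | hn
    · exact vanish_high (RefOne.isCoh_idealMod i.ker) j (by omega)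
    haveI : IsProper (PS ↘ Spec (CommRingCat.of k)) := CompleteCurve.isProper_toSpec n k
    have hT := shortExact_twSeq hS j
    haveI h2 : Subsingleton (Coh.HH PS (twSeq (ShortComplex.mk (ClSub.idealModι i.ker) _ (cokernel.condition _)) j).X₂ 1) :=
      HT_structure (k := k) (n := n) j le_rfl (by omega)
    have hinj : Function.Injective (CurveLib.hMap (k := k)
        (twSeq (ShortComplex.mk (ClSub.idealModι i.ker) _ (cokernel.condition _)) j).f 1) := by
      rw [← LinearMap.ker_eq_bot, ← CurveLib.range_hδ hT 0, LinearMap.range_eq_bot, ← LinearMap.ker_eq_top,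
        ← CurveLib.range_hMap_g hT 0, LinearMap.range_eq_top]
      exact (surjective_hMap_zero (k := k) _).2 (surjAt_of_le i μ hμ hj)
    exact hinj.subsingleton
  refine ⟨hI1, fun q hq hqn => ?_⟩
  rcases Nat.lt_or_ge q 2 with h2 | h2
  · obtain rfl : q = 1 := by omega
    exact hI1 _ (by push_cast; omega)
  · obtain ⟨p, rfl⟩ : ∃ p, q = p + 1 := ⟨q - 1, by omega⟩
    exact HT.left hS (HT_structure _ hq (by push_cast; omega))
      (vanish_of_support (isCoh_quo i) (r := 0) (by simpa using support_quo i) _ (by omega))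

end Groth.Agent.PointsRegLib
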