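import Groth.Agent.PointsRegLib.Geom
import Groth.Agent.CMRegLib.Res
import Groth.Agent.CMRegLib.Drop
import Groth.Agent.HilbObsLib.Ideal
import Groth.Agent.RefOne.Divisor
import Groth.Agent.SubLib.Basic
import Groth.Agent.DevLib.Sub

/-!
# Regularity of finite subschemes of projective space
-/

set_option autoImplicit false
set_option backward.isDefEq.respectTransparency false
set_option linter.style.haveILetI false

universe u

open CategoryTheory CategoryTheory.Limits AlgebraicGeometry TopologicalSpace Opposite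
open Groth.Agent.DCohLib Groth.Agent.PullbackMod Groth.Agent.CMRegLib

noncomputable section

namespace Groth.Agent.PointsRegLib

variable {k : Type u} [Field k] {n : ℕ}

local notation "PS" => CohB1.ProjSpace n k

/-- The twists of the structure sheaf. -/
abbrev OD (n : ℕ) (k : Type u) [Field k] : ProjCoh.MulData (CohB1.ProjSpace n k) (Fin (n + 1)) :=
  projData k n (Coh.structureModule (CohB1.ProjSpace n k))

variable {X : Scheme.{u}} (i : X ⟶ CohB1.ProjSpace n k)

/-- A global section with prescribed values at the points of `X`. -/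
def Realises {j : ℤ} (g : ∀ x : X, ((OD n k).F j).presheaf.stalk (i x)) (a : ∀ x, X.presheaf.stalk x) : Prop :=
  ∃ σ : Γ((OD n k).F j, ⊤), ∀ x, ∃ r, i.stalkMap x r = a x ∧
    ((OD n k).F j).presheaf.germ ⊤ (i x) trivial σ = r • g x

theorem realises_add {j : ℤ} {g : ∀ x : X, ((OD n k).F j).presheaf.stalk (i x)} {a b : ∀ x, X.presheaf.stalk x}
    (ha : Realises i g a) (hb : Realises i g b) : Realises i g (a + b) := by
  obtain ⟨σ, hσ⟩ := ha
  obtain ⟨τ, hτ⟩ := hb
  refine ⟨σ + τ, fun x => ?_⟩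
  obtain ⟨r, hr, hr'⟩ := hσ x
  obtain ⟨s, hs, hs'⟩ := hτ x
  exact ⟨r + s, by rw [map_add, hr, hs]; rfl, by rw [map_add, add_smul, hr', hs']⟩

theorem realises_smul {j : ℤ} {g : ∀ x : X, ((OD n k).F j).presheaf.stalk (i x)} {a : ∀ x, X.presheaf.stalk x}
    (c : k) (ha : Realises i g a) :
    letI := fun x => (cstX i x).toAlgebra
    Realises i g (c • a) := by
  letI := fun x => (cstX i x).toAlgebra
  obtain ⟨σ, hσ⟩ := ha
  refine ⟨(cst (n := n) c) • σ, fun x => ?_⟩
  obtain ⟨r, hr, hr'⟩ := hσ x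
  refine ⟨(PS).presheaf.germ ⊤ (i x) trivial (cst c) * r, ?_, ?_⟩
  · rw [map_mul, hr]
    rfl
  · rw [SubLib.germ_smul', hr', mul_smul]

/-- Values of the monomials of degree `d`. -/
theorem exists_realises (v₀ : X → Fin (n + 1)) (hv₀ : ∀ x, i x ∈ AmpleEmb.stdOpen n k (v₀ x)) :
    letI := fun x => (cstX i x).toAlgebra
    ∀ (d : ℕ) (j : ℤ), j = d → ∃ g : ∀ x : X, ((OD n k).F j).presheaf.stalk (i x),
      (∀ x z, ∃ r : (PS).presheaf.stalk (i x), z = r • g x) ∧
      ∀ a ∈ Submodule.span k (Set.range fun (v : Fin (n + 1)) (x : X) => rho i (hv₀ x) (ratio (v₀ x) v)) ^ d,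
        Realises i g a := by
  letI := fun x => (cstX i x).toAlgebra
  intro d
  induction d with
  | zero =>
    intro j hj
    subst hj
    let e := zeroTwistIso (Coh.structureModule (PS))
    refine ⟨fun x => stalkLin e.inv (i x) (ParaFLib.oneG (i x)), fun x z => ?_, fun a ha => ?_⟩
    · obtain ⟨r, hr⟩ := (ParaFLib.bijective_oneG (i x)).2 (stalkLin e.hom (i x) z)
      refine ⟨r, ?_⟩
      show z = r • stalkLin e.inv (i x) (ParaFLib.oneG (i x))
      rw [← map_smul, show r • ParaFLib.oneG (i x) = stalkLin e.hom (i x) z from hr,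
        ← LinearMap.comp_apply, ← stalkLin_comp, e.hom_inv_id, stalkLin_id]
      rfl
    · rw [pow_zero, Submodule.mem_one] at ha
      obtain ⟨c, rfl⟩ := ha
      refine ⟨e.inv.app ⊤ ((cst (n := n) c) • (1 : Γ(PS, ⊤))), fun x => ⟨(PS).presheaf.germ ⊤ (i x) trivial (cst c), rfl, ?_⟩⟩
      refine Eq.trans ?_ (map_smul (stalkLin e.inv (i x)) _ _)
      refine (stalkLin_germ e.inv (U := ⊤) (i x) trivial _).symm.trans (congrArg _ ?_)
      exact SubLib.germ_smul' (M := Coh.structureModule (PS)) ⊤ (i x) trivial (cst c) _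
  | succ d ih =>
    intro j hj
    obtain ⟨g, hg, hW⟩ := ih (j - 1) (by omega)
    have hμ : ∀ x, Function.Bijective (stalkLin ((OD n k).μ (v₀ x) j) (i x)) := fun x =>
      (OD n k).bij (v₀ x) j (i x) (hv₀ x)
    refine ⟨fun x => stalkLin ((OD n k).μ (v₀ x) j) (i x) (g x), fun x z => ?_, fun a ha => ?_⟩
    · obtain ⟨w, rfl⟩ := (hμ x).2 z
      obtain ⟨r, rfl⟩ := hg x w
      exact ⟨r, map_smul _ _ _⟩
    · rw [pow_succ] at ha
      refine Submodule.mul_induction_on ha (fun a ha b hb => ?_) (fun a b => realises_add i)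
      induction hb using Submodule.span_induction with
      | mem b hb =>
        obtain ⟨v, rfl⟩ := hb
        obtain ⟨σ, hσ⟩ := hW a ha
        refine ⟨((OD n k).μ v j).app ⊤ σ, fun x => ?_⟩
        obtain ⟨r, hr, hr'⟩ := hσ x
        refine ⟨r * (PS).presheaf.germ _ (i x) (hv₀ x) (ratio (v₀ x) v), ?_, ?_⟩
        · rw [map_mul, hr]
          rfl
        · rw [← stalkLin_germ ((OD n k).μ v j) (U := ⊤) (i x) trivial, hr', map_smul,
            (OD n k).ratio (v₀ x) v j (i x) (hv₀ x), mul_smul]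
          rfl
      | zero =>
        rw [mul_zero]
        exact ⟨0, fun x => ⟨0, map_zero _, by rw [map_zero, zero_smul]⟩⟩
      | add b c _ _ hb hc => rw [mul_add]; exact realises_add i hb hc
      | smul c b _ hb => rw [mul_smul_comm]; exact realises_smul i c hb

variable [IsClosedImmersion i]

theorem mem_stalkIdeal_ker {x : X} {r : (PS).presheaf.stalk (i x)} (h : i.stalkMap x r = 0) :
    r ∈ IntMult.stalkIdeal i.ker (i x) := by
  obtain ⟨a, ha⟩ := exists_chart (i x)
  have hU := isAffineOpen_stdOpen (k := k) a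
  haveI : IsClosedImmersion (i ∣_ AmpleEmb.stdOpen n k a) := IsZariskiLocalAtTarget.restrict ‹_› _
  rw [IdealStalkLib.stalkIdeal_eq i.ker ⟨_, hU⟩ (i x) ha, Scheme.Hom.ker_apply]
  exact (RegIdealLib.ker_stalkMap i hU inferInstance x ha).le (RingHom.mem_ker.2 h)

theorem range_subschemeι_subset {z : PS} (hz : z ∈ Set.range i.ker.subschemeι) : z ∈ Set.range i := by
  rw [Scheme.IdealSheafData.range_subschemeι, Scheme.Hom.support_ker] at hz
  have hc : IsClosed (Set.range i) := i.isClosedEmbedding.isClosed_range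
  exact hc.closure_eq.subset hz

/-- The quotient map. -/
abbrev quo : Coh.structureModule (PS) ⟶ cokernel (ClSub.idealModι i.ker) := cokernel.π _

theorem quo_smul_eq_zero {z : PS} {r : (PS).presheaf.stalk z} (hr : r ∈ IntMult.stalkIdeal i.ker z)
    (f : (Coh.structureModule (PS)).presheaf.stalk z) : r • stalkLin (quo i) z f = 0 := by
  obtain ⟨s, rfl⟩ := (ParaFLib.bijective_oneG z).2 f
  obtain ⟨m, hm⟩ := (HilbObsLib.mem_range_idealModι i.ker z (r * s)).2 (Ideal.mul_mem_right _ _ hr)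
  show r • stalkLin (quo i) z (s • ParaFLib.oneG z) = 0
  rw [← map_smul, smul_smul, ← hm, ← LinearMap.comp_apply, ← stalkLin_comp, cokernel.condition, DevLib.stalkLin_zero]
  rfl

theorem subsingleton_stalk_quo {z : PS} (hz : z ∉ Set.range i) :
    Subsingleton ((cokernel (ClSub.idealModι i.ker)).presheaf.stalk z) := by
  refine subsingleton_of_forall_eq 0 fun w => ?_
  obtain ⟨w, rfl⟩ := (epi_iff_stalk (quo i)).1 inferInstance z w
  rw [← one_smul ((PS).presheaf.stalk z) (stalkLin (quo i) z w)]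
  exact quo_smul_eq_zero i ((HilbObsLib.stalkIdeal_eq_top i.ker fun h => hz (range_subschemeι_subset i h)).ge trivial) w

section Generic

variable {Y : Scheme.{u}} {O Q : Y.Modules} (π : O ⟶ Q) (L : Y.Modules) (z : Y)

theorem smul_tensR_eq_zero {r : Y.presheaf.stalk z} (h : ∀ f, r • stalkLin π z f = 0)
    (w : ((CurveLib.tensR L).obj O).presheaf.stalk z) : r • stalkLin ((CurveLib.tensR L).map π) z w = 0 := by
  obtain ⟨w, rfl⟩ := (stalkTensor z O L).surjective w
  refine (congrArg (r • ·) (stalkTensor_natural_left z π w)).trans ?_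
  refine ((stalkTensor z Q L).map_smul r _).symm.trans ?_
  rw [← map_zero (stalkTensor z Q L)]
  refine congrArg _ ?_
  induction w using TensorProduct.induction_on with
  | zero => simp
  | add p q hp hq => rw [map_add, smul_add, hp, hq, add_zero]
  | tmul f t => rw [LinearMap.rTensor_tmul, TensorProduct.smul_tmul', h, TensorProduct.zero_tmul]

theorem subsingleton_tensR (h : Subsingleton (Q.presheaf.stalk z)) :
    Subsingleton (((CurveLib.tensR L).obj Q).presheaf.stalk z) :=
  haveI := h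
  (stalkTensor z Q L).symm.toEquiv.subsingleton

theorem app_eq_of_stalk {M N : Y.Modules} (φ : M ⟶ N) (σ : Γ(M, ⊤)) (s : Γ(N, ⊤))
    (h : ∀ z, stalkLin φ z (M.presheaf.germ ⊤ z trivial σ) = N.presheaf.germ ⊤ z trivial s) : φ.app ⊤ σ = s :=
  TopCat.Presheaf.section_ext (X := Y.toTopCat) ⟨_, N.isSheaf⟩ ⊤ _ _ fun z _ =>
    (stalkLin_germ φ (U := ⊤) z trivial σ).symm.trans (h z)

/-- Lifting a section of a tensored quotient from data at the points. -/
theorem exists_lift [Epi π] {X : Type u} (f : X → Y) (hQ : ∀ z, z ∉ Set.range f → Subsingleton (Q.presheaf.stalk z))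
    (g : ∀ x, ((CurveLib.tensR L).obj O).presheaf.stalk (f x))
    (hg : ∀ x w, ∃ r : Y.presheaf.stalk (f x), w = r • g x)
    (hσ : ∀ r : ∀ x, Y.presheaf.stalk (f x), ∃ σ : Γ((CurveLib.tensR L).obj O, ⊤), ∀ x, ∃ r',
      (∀ v, (r' - r x) • stalkLin π (f x) v = 0) ∧
        ((CurveLib.tensR L).obj O).presheaf.germ ⊤ (f x) trivial σ = r' • g x)
    (s : Γ((CurveLib.tensR L).obj Q, ⊤)) : ∃ σ, ((CurveLib.tensR L).map π).app ⊤ σ = s := by
  have hsurj : ∀ x, Function.Surjective (stalkLin ((CurveLib.tensR L).map π) (f x)) := fun x q => by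
    obtain ⟨q, rfl⟩ := (stalkTensor (f x) Q L).surjective q
    obtain ⟨o, rfl⟩ := LinearMap.rTensor_surjective _ ((epi_iff_stalk π).1 inferInstance (f x)) q
    exact ⟨stalkTensor (f x) O L o, stalkTensor_natural_left (f x) π o⟩
  choose w hw using fun x => hsurj x (((CurveLib.tensR L).obj Q).presheaf.germ ⊤ (f x) trivial s)
  choose r hr using fun x => hg x (w x)
  obtain ⟨σ, hσ⟩ := hσ r
  refine ⟨σ, app_eq_of_stalk _ σ s fun z => ?_⟩
  by_cases hz : z ∈ Set.range f
  · obtain ⟨x, rfl⟩ := hz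
    obtain ⟨r', hr', hσ'⟩ := hσ x
    rw [← hw x, hr x, hσ', ← sub_eq_zero, ← map_sub, ← sub_smul, map_smul]
    exact smul_tensR_eq_zero π L (f x) hr' (g x)
  · haveI := subsingleton_tensR (Q := Q) L z (hQ z hz)
    exact Subsingleton.elim _ _

end Generic

/-- All prescribed values at the points give surjectivity on global sections. -/
theorem surjAt_quo (v₀ : X → Fin (n + 1)) (hv₀ : ∀ x, i x ∈ AmpleEmb.stdOpen n k (v₀ x)) {j : ℕ}
    (htop : letI := fun x => (cstX i x).toAlgebra
      Submodule.span k (Set.range fun (v : Fin (n + 1)) (x : X) => rho i (hv₀ x) (ratio (v₀ x) v)) ^ j = ⊤) :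
    CMRegLib.SurjAt (quo i) (j : ℤ) := by
  letI := fun x => (cstX i x).toAlgebra
  intro s
  obtain ⟨g, hg, hW⟩ := exists_realises i v₀ hv₀ j (j : ℤ) rfl
  refine exists_lift (quo i) (Twist.twistProjSpace n k (j : ℤ)) (fun x => i x)
    (fun z hz => subsingleton_stalk_quo i hz) g hg (fun r => ?_) s
  obtain ⟨σ, hσ⟩ := hW (fun x => i.stalkMap x (r x)) (htop ▸ trivial)
  refine ⟨σ, fun x => ?_⟩
  obtain ⟨r', hr', hσ'⟩ := hσ x
  exact ⟨r', fun v => quo_smul_eq_zero i (mem_stalkIdeal_ker i (by rw [map_sub, hr', sub_self])) v, hσ'⟩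

end Groth.Agent.PointsRegLib
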